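import Mathlib
import Cfsg.Agent.SmallOrders.BlockFilter

/-!
A group of order 7920 which is not simple has connected prime graph.
-/

set_option autoImplicit false
set_option linter.style.haveILetI false

open scoped Pointwise

namespace CfsgLib.Order7920

variable {G : Type*} [Group G] [Finite G]

/-- `a` and `b` are joined in the prime graph. -/
def Edge (G : Type*) [Group G] (a b : ℕ) : Prop := ∃ g : G, orderOf g = a * b

theorem Edge.symm {a b : ℕ} (h : Edge G a b) : Edge G b a := by
  obtain ⟨g, hg⟩ := h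
  exact ⟨g, by rw [hg, mul_comm]⟩

theorem edge_of_commute {a b : ℕ} (hab : a.Coprime b) {x y : G} (hx : orderOf x = a) (hy : orderOf y = b)
    (h : Commute x y) : Edge G a b :=
  ⟨x * y, by rw [h.orderOf_mul_eq_mul_orderOf_of_coprime (by rw [hx, hy]; exact hab), hx, hy]⟩

theorem edge_of_centralizer {a b : ℕ} [Fact a.Prime] [Fact b.Prime] (hab : a ≠ b) (K : Subgroup G)
    (ha : a ∣ Nat.card K) (hb : b ∣ Nat.card (Subgroup.centralizer (K : Set G))) : Edge G a b := by
  obtain ⟨x, hx⟩ := exists_prime_orderOf_dvd_card' (G := K) a ha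
  obtain ⟨y, hy⟩ := exists_prime_orderOf_dvd_card' (G := Subgroup.centralizer (K : Set G)) b hb
  refine edge_of_commute ((Nat.coprime_primes Fact.out Fact.out).mpr hab) (x := (x : G)) (y := (y : G))
    (by rw [Subgroup.orderOf_coe]; exact hx) (by rw [Subgroup.orderOf_coe]; exact hy) ?_
  exact Subgroup.mem_centralizer_iff.mp y.2 x x.2

/-- An `r`-group acting on a `q`-group without free action gives an edge. -/
theorem edge_of_not_free {r q : ℕ} [Fact r.Prime] [Fact q.Prime] (hrq : r ≠ q) (R N : Subgroup G)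
    (hR : IsPGroup r R) (hN : IsPGroup q N) (hRN : R ≤ Subgroup.normalizer (N : Set G))
    (h : ¬ Nat.card R ∣ Nat.card N - 1) : Edge G r q := by
  classical
  by_contra hc
  apply h
  have hfree : ∀ x ∈ R, x ≠ 1 → ∀ v ∈ N, v ≠ 1 → x * v * x⁻¹ ≠ v := by
    intro x hx hx1 v hv hv1 he
    have hxo : r ∣ Nat.card (Subgroup.zpowers x) :=
      (hR.to_le (Subgroup.zpowers_le.mpr hx)).card_eq_or_dvd.resolve_left fun h1 => by
        rw [Nat.card_zpowers, orderOf_eq_one_iff] at h1
        exact hx1 h1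
    have hvo : q ∣ Nat.card (Subgroup.zpowers v) :=
      (hN.to_le (Subgroup.zpowers_le.mpr hv)).card_eq_or_dvd.resolve_left fun h1 => by
        rw [Nat.card_zpowers, orderOf_eq_one_iff] at h1
        exact hv1 h1
    have hle : Subgroup.zpowers v ≤ Subgroup.centralizer (Subgroup.zpowers x : Set G) := by
      rw [Subgroup.zpowers_le, Subgroup.mem_centralizer_iff]
      intro y hy
      obtain ⟨k, rfl⟩ := Subgroup.mem_zpowers_iff.mp hy
      exact (Commute.zpow_left (mul_inv_eq_iff_eq_mul.mp he : Commute x v) k)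
    exact hc (edge_of_centralizer hrq _ hxo (hvo.trans (Subgroup.card_dvd_of_le hle)))
  have hmem : ∀ (x : R) (v : {v : G // v ∈ N ∧ v ≠ 1}),
      (x : G) * (v : G) * (x : G)⁻¹ ∈ N ∧ (x : G) * (v : G) * (x : G)⁻¹ ≠ 1 :=
    fun x v => ⟨(Subgroup.mem_normalizer_iff.mp (hRN x.2) _).mp v.2.1, fun e => v.2.2 (conj_eq_one_iff.mp e)⟩
  letI : MulAction R {v : G // v ∈ N ∧ v ≠ 1} :=
    { smul := fun x v => ⟨(x : G) * (v : G) * (x : G)⁻¹, hmem x v⟩
      one_smul := fun v => Subtype.ext (by
        show ((1 : R) : G) * (v : G) * ((1 : R) : G)⁻¹ = v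
        simp)
      mul_smul := fun x y v => Subtype.ext (by
        show ((x * y : R) : G) * (v : G) * ((x * y : R) : G)⁻¹ =
          (x : G) * ((y : G) * (v : G) * (y : G)⁻¹) * (x : G)⁻¹
        simp [mul_assoc]) }
  have hst : ∀ v : {v : G // v ∈ N ∧ v ≠ 1}, MulAction.stabilizer R v = ⊥ := by
    intro v
    rw [eq_bot_iff]
    intro x hx
    by_contra hx1
    exact hfree x x.2 (fun e => hx1 (Subgroup.mem_bot.mpr (Subtype.ext e))) v v.2.1 v.2.2
      (congrArg Subtype.val hx)
  haveI : Finite {v : G // v ∈ N ∧ v ≠ 1} := inferInstance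
  have e := MulAction.selfEquivSigmaOrbits R {v : G // v ∈ N ∧ v ≠ 1}
  have hsum : Nat.card R ∣ Nat.card {v : G // v ∈ N ∧ v ≠ 1} := by
    haveI := Fintype.ofFinite (Quotient (MulAction.orbitRel R {v : G // v ∈ N ∧ v ≠ 1}))
    rw [Nat.card_congr e, Nat.card_sigma]
    refine Finset.dvd_sum fun w _ => ?_
    have := MulAction.index_stabilizer (G := R) w.out
    rw [hst, Subgroup.index_bot] at this
    rw [this, ← Nat.card_coe_set_eq]
  have hN1 : Nat.card {v : G // v ∈ N ∧ v ≠ 1} = Nat.card N - 1 := by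
    have h1 : Nat.card {v : G // v ∈ N ∧ v ≠ 1} = ((N : Set G) \ {1}).ncard := by
      rw [← Nat.card_coe_set_eq]
      exact Nat.card_congr (Equiv.refl _)
    rw [h1, Set.ncard_diff_singleton_of_mem N.one_mem, ← Nat.card_coe_set_eq]
    rfl
  rwa [hN1] at hsum

/-- An `r`-group normalizing a subgroup of order prime to `r` normalizes one of its Sylow subgroups. -/
theorem exists_invariant_sylow {r q : ℕ} [Fact r.Prime] [Fact q.Prime] (R C : Subgroup G)
    (hR : IsPGroup r R) (hRC : R ≤ Subgroup.normalizer (C : Set G)) (hr : ¬ r ∣ Nat.card C) :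
    ∃ Q : Subgroup G, Q ≤ C ∧ IsPGroup q Q ∧ Nat.card Q = q ^ (Nat.card C).factorization q ∧
      R ≤ Subgroup.normalizer (Q : Set G) := by
  let f : R →* MulAut C := C.normalizerMonoidHom.comp (Subgroup.inclusion hRC)
  letI : MulDistribMulAction R C := MulDistribMulAction.compHom C f
  have hdvd : ¬ r ∣ Nat.card (Sylow q C) :=
    fun h => hr (h.trans ((Classical.arbitrary (Sylow q C)).card_dvd_index.trans (Subgroup.index_dvd_card _)))
  obtain ⟨Q, hQ⟩ := hR.nonempty_fixed_point_of_prime_not_dvd_card (Sylow q C) hdvd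
  refine ⟨(Q : Subgroup C).map C.subtype, Subgroup.map_subtype_le _, Q.isPGroup'.map _, ?_, ?_⟩
  · rw [Subgroup.card_map_of_injective C.subtype_injective, Q.card_eq_multiplicity]
  · intro x hx
    refine Subgroup.mem_normalizer_fintype ?_
    rintro _ ⟨y, hy, rfl⟩
    have hmem : (⟨x, hx⟩ : R) • y ∈ ((⟨x, hx⟩ : R) • Q : Sylow q C) := by
      show (⟨x, hx⟩ : R) • y ∈ (⟨x, hx⟩ : R) • (Q : Subgroup C)
      exact Subgroup.smul_mem_pointwise_smul y _ _ hy
    rw [hQ ⟨x, hx⟩] at hmem
    exact ⟨_, hmem, rfl⟩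

theorem not_dvd_of_lt {r k : ℕ} (h1 : 0 < k) (h2 : k < r) : ¬ r ∣ k :=
  fun h => absurd (Nat.le_of_dvd h1 h) (by omega)

section

variable (hord : Nat.card G = 7920)
include hord

theorem factorization_two : (Nat.card G).factorization 2 = 4 := by
  rw [hord, show (7920 : ℕ) = 2 ^ 4 * 495 by norm_num,
    Nat.factorization_mul (by norm_num) (by norm_num), Finsupp.add_apply, Nat.prime_two.factorization_pow,
    Nat.factorization_eq_zero_of_not_dvd (by norm_num), Finsupp.single_eq_same]

theorem card_sylow_three (R : Sylow 3 G) : Nat.card (R : Subgroup G) = 9 := by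
  haveI : Fact (Nat.Prime 3) := ⟨by norm_num⟩
  have := CfsgLib.SmallOrd.sylow_card (p := 3) (k := 2) (m := 880) (by rw [hord]; norm_num) (by norm_num) R
  simpa using this

theorem card_sylow_five (R : Sylow 5 G) : Nat.card (R : Subgroup G) = 5 := by
  haveI : Fact (Nat.Prime 5) := ⟨by norm_num⟩
  have := CfsgLib.SmallOrd.sylow_card (p := 5) (k := 1) (m := 1584) (by rw [hord]; norm_num) (by norm_num) R
  simpa using this

variable [Fact (Nat.Prime 11)] (P : Sylow 11 G)
include P

theorem card_P : Nat.card (P : Subgroup G) = 11 := by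
  have := CfsgLib.SmallOrd.sylow_card (p := 11) (k := 1) (m := 720) (by rw [hord]; norm_num) (by norm_num) P
  simpa using this

theorem card_sylow_mem :
    Nat.card (Sylow 11 G) = 1 ∨ Nat.card (Sylow 11 G) = 12 ∨ Nat.card (Sylow 11 G) = 45 ∨
      Nat.card (Sylow 11 G) = 144 := by
  have h1 : Nat.card (Sylow 11 G) % 11 = 1 := card_sylow_modEq_one 11 G
  have h2 : (P : Subgroup G).index = 720 := by
    have := (P : Subgroup G).card_mul_index
    rw [card_P hord P, hord] at this
    omega
  have h3 : Nat.card (Sylow 11 G) ∈ (720 : ℕ).divisors :=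
    Nat.mem_divisors.mpr ⟨h2 ▸ P.card_dvd_index, by norm_num⟩
  have hd : ∀ d ∈ (720 : ℕ).divisors, d % 11 = 1 → d = 1 ∨ d = 12 ∨ d = 45 ∨ d = 144 := by decide +kernel
  exact hd _ h3 h1

theorem card_normalizer : Nat.card (Sylow 11 G) *
    Nat.card (Subgroup.normalizer ((P : Subgroup G) : Set G)) = 7920 := by
  rw [P.card_eq_index_normalizer]
  exact (Subgroup.index_mul_card _).trans hord

/-- The centralizer of the Sylow subgroup has index dividing ten in the normalizer. -/
theorem exists_index : ∃ e, e ∣ 10 ∧ Nat.card (Subgroup.centralizer ((P : Subgroup G) : Set G)) * e =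
    Nat.card (Subgroup.normalizer ((P : Subgroup G) : Set G)) := by
  set M := Subgroup.normalizer ((P : Subgroup G) : Set G)
  refine ⟨(P : Subgroup G).normalizerMonoidHom.ker.index, ?_, ?_⟩
  · rw [Subgroup.index_ker]
    refine (Subgroup.card_subgroup_dvd_card _).trans ?_
    haveI : IsCyclic (P : Subgroup G) := isCyclic_of_prime_card (card_P hord P)
    rw [IsCyclic.card_mulAut, card_P hord P, Nat.totient_prime (by norm_num)]
  · have hk := Subgroup.normalizerMonoidHom_ker (P : Subgroup G)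
    rw [hk]
    have hle : Subgroup.centralizer ((P : Subgroup G) : Set G) ≤ M := Subgroup.centralizer_le_normalizer _
    rw [← Nat.card_congr (Subgroup.subgroupOfEquivOfLe hle).toEquiv]
    exact Subgroup.card_mul_index _

/-- The Sylow subgroup centralizes what it normalizes, away from eleven. -/
theorem le_centralizer (K : Subgroup G) (hPK : (P : Subgroup G) ≤ Subgroup.normalizer (K : Set G))
    (hK : ¬ 11 ∣ Nat.card K) : K ≤ Subgroup.centralizer ((P : Subgroup G) : Set G) := by
  set D := K ⊓ Subgroup.centralizer ((P : Subgroup G) : Set G)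
  suffices h : Nat.card K ∣ Nat.card D by
    have := Subgroup.eq_of_le_of_card_ge (inf_le_left : D ≤ K) (Nat.le_of_dvd Nat.card_pos h)
    rw [← this]
    exact inf_le_right
  rw [← Nat.factorization_prime_le_iff_dvd Nat.card_pos.ne' Nat.card_pos.ne']
  intro q hq
  haveI : Fact q.Prime := ⟨hq⟩
  rw [← hq.pow_dvd_iff_le_factorization Nat.card_pos.ne']
  rcases Nat.eq_zero_or_pos ((Nat.card K).factorization q) with hk | hk
  · simp [hk]
  obtain ⟨Q, hQK, hQ, hQc, hPQ⟩ := exists_invariant_sylow (q := q) (P : Subgroup G) K P.isPGroup' hPK hK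
  rw [← hQc]
  refine Subgroup.card_dvd_of_le (le_inf hQK ?_)
  let f : (P : Subgroup G) →* MulAut Q := Q.normalizerMonoidHom.comp (Subgroup.inclusion hPQ)
  letI : MulDistribMulAction (P : Subgroup G) Q := MulDistribMulAction.compHom Q f
  let F : Subgroup Q := FixedPoints.subgroup (P : Subgroup G) Q
  have hmod : Nat.card Q ≡ Nat.card F [MOD 11] := P.isPGroup'.card_modEq_card_fixedPoints Q
  obtain ⟨j, hj, hjF⟩ := (Nat.dvd_prime_pow hq).mp (hQc ▸ F.card_subgroup_dvd_card)
  rw [hQc, hjF] at hmod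
  set k := (Nat.card K).factorization q
  have hdvdK : q ^ k ∣ 7920 := (Nat.ordProj_dvd _ _).trans (hord ▸ Subgroup.card_subgroup_dvd_card K)
  have hq11 : q ≠ 11 := fun e => hK (e ▸ (dvd_pow_self q hk.ne').trans (Nat.ordProj_dvd _ _))
  have hqd : q ∈ (7920 : ℕ).primeFactors :=
    Nat.mem_primeFactors.mpr ⟨hq, (dvd_pow_self q hk.ne').trans hdvdK, by norm_num⟩
  have hdec : ∀ q ∈ ({2, 3, 5} : Finset ℕ), ∀ k < 5, q ^ k ∣ 7920 →
      ∀ j ≤ k, q ^ k % 11 = q ^ j % 11 → j = k := by decide +kernel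
  have hq' : q ∈ ({2, 3, 5} : Finset ℕ) := by
    rw [show (7920 : ℕ).primeFactors = {2, 3, 5, 11} by decide +kernel] at hqd
    simp only [Finset.mem_insert, Finset.mem_singleton] at hqd ⊢
    omega
  have hk5 : k < 5 := by
    have h2 : ∀ q ∈ ({2, 3, 5} : Finset ℕ), ¬ q ^ 5 ∣ 7920 := by decide +kernel
    by_contra hc
    exact h2 q hq' ((pow_dvd_pow q (not_lt.mp hc)).trans hdvdK)
  obtain rfl := hdec q hq' k hk5 hdvdK j hj hmod
  have hFtop : F = ⊤ := Subgroup.eq_top_of_card_eq _ (by rw [hjF, hQc])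
  intro v hv
  rw [Subgroup.mem_centralizer_iff]
  intro x hx
  have hfix : (⟨v, hv⟩ : Q) ∈ F := by rw [hFtop]; trivial
  have := congrArg Subtype.val (hfix ⟨x, hx⟩)
  exact mul_inv_eq_iff_eq_mul.mp this

/-- At most twelve Sylow subgroups at eleven give a connected graph. -/
theorem edges_of_small (h : Nat.card (Sylow 11 G) ≤ 12) :
    Edge G 11 2 ∧ Edge G 11 3 ∧ (Edge G 11 5 ∨ Edge G 5 3) := by
  haveI : Fact (Nat.Prime 2) := ⟨by norm_num⟩
  haveI : Fact (Nat.Prime 3) := ⟨by norm_num⟩
  haveI : Fact (Nat.Prime 5) := ⟨by norm_num⟩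
  obtain ⟨e, he, hCe⟩ := exists_index hord P
  have hM := card_normalizer hord P
  have hPc : 11 ∣ Nat.card (P : Subgroup G) := by rw [card_P hord P]
  have h66 : 66 ∣ Nat.card (Subgroup.centralizer ((P : Subgroup G) : Set G)) := by
    obtain ⟨k, hk⟩ : 660 ∣ Nat.card (Subgroup.centralizer ((P : Subgroup G) : Set G)) * 10 := by
      refine dvd_trans ?_ (Nat.mul_dvd_mul_left _ he)
      rw [hCe]
      rcases card_sylow_mem hord P with h1 | h1 | h1 | h1 <;> rw [h1] at hM h <;> omega
    exact ⟨k, by omega⟩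
  refine ⟨edge_of_centralizer (by norm_num) _ hPc (dvd_trans (by norm_num) h66),
    edge_of_centralizer (by norm_num) _ hPc (dvd_trans (by norm_num) h66), ?_⟩
  set M := Subgroup.normalizer ((P : Subgroup G) : Set G) with hMdef
  set C := Subgroup.centralizer ((P : Subgroup G) : Set G) with hCdef
  by_cases h5 : 5 ∣ Nat.card C
  · exact Or.inl (edge_of_centralizer (by norm_num) _ hPc h5)
  · have h5M : 5 ∣ Nat.card M := by
      rcases card_sylow_mem hord P with h1 | h1 | h1 | h1 <;> rw [h1] at hM h <;> omega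
    obtain ⟨x, hx⟩ := exists_prime_orderOf_dvd_card' (G := M) 5 h5M
    have hxo : orderOf (x : G) = 5 := by rw [Subgroup.orderOf_coe]; exact hx
    set R := Subgroup.zpowers (x : G) with hRdef
    have hRc : Nat.card R = 5 := by rw [hRdef, Nat.card_zpowers, hxo]
    have hR : IsPGroup 5 R := IsPGroup.of_card (n := 1) (by rw [hRc, pow_one])
    have hRC : R ≤ Subgroup.normalizer (C : Set G) := by
      rw [hRdef, Subgroup.zpowers_le]
      refine Subgroup.mem_normalizer_fintype fun y hy => ?_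
      refine Subgroup.mem_centralizer_iff.mpr fun z hz => ?_
      have hz' : (x : G)⁻¹ * z * (x : G) ∈ (P : Subgroup G) := (Subgroup.mem_normalizer_iff''.mp x.2 z).mp hz
      have h2 := Subgroup.mem_centralizer_iff.mp hy _ hz'
      calc z * ((x : G) * y * (x : G)⁻¹) = (x : G) * (((x : G)⁻¹ * z * (x : G)) * y) * (x : G)⁻¹ := by group
        _ = (x : G) * (y * ((x : G)⁻¹ * z * (x : G))) * (x : G)⁻¹ := by rw [h2]
        _ = (x : G) * y * (x : G)⁻¹ * z := by group
    obtain ⟨Q, hQC, hQ, hQc, hRQ⟩ := exists_invariant_sylow (q := 3) R C hR hRC h5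
    refine Or.inr (edge_of_not_free (by norm_num) R Q hR hQ hRQ ?_)
    rw [hRc, hQc]
    have hk1 : 1 ≤ (Nat.card C).factorization 3 :=
      ((by norm_num : Nat.Prime 3).dvd_iff_one_le_factorization Nat.card_pos.ne').mp (dvd_trans (by norm_num) h66)
    have hk2 : (Nat.card C).factorization 3 ≤ 2 := by
      by_contra hc
      have : 3 ^ 3 ∣ 7920 := ((pow_dvd_pow 3 (not_le.mp hc)).trans (Nat.ordProj_dvd _ _)).trans
        (hord ▸ Subgroup.card_subgroup_dvd_card C)
      norm_num at this
    interval_cases ((Nat.card C).factorization 3) <;> norm_num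

/-- A normal subgroup of order prime to eleven makes the graph connected. -/
theorem edges_of_normal (h : 12 < Nat.card (Sylow 11 G)) (N : Subgroup G) [N.Normal] (hN1 : N ≠ ⊥)
    (hN : ¬ 11 ∣ Nat.card N) :
    (Edge G 11 2 ∧ Edge G 3 2 ∧ Edge G 5 2) ∨ (Edge G 11 5 ∧ Edge G 2 5 ∧ Edge G 3 5) := by
  haveI : Fact (Nat.Prime 2) := ⟨by norm_num⟩
  haveI : Fact (Nat.Prime 3) := ⟨by norm_num⟩
  haveI : Fact (Nat.Prime 5) := ⟨by norm_num⟩
  have hnorm : ∀ X : Subgroup G, X ≤ Subgroup.normalizer (N : Set G) := fun X => by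
    rw [Subgroup.normalizer_eq_top]; exact le_top
  set C := Subgroup.centralizer ((P : Subgroup G) : Set G) with hCdef
  have hNC : N ≤ C := le_centralizer hord P N (hnorm _) hN
  have hNd : Nat.card N ∣ Nat.card C := Subgroup.card_dvd_of_le hNC
  obtain ⟨e, he, hCe⟩ := exists_index hord P
  have hM := card_normalizer hord P
  have hPc : 11 ∣ Nat.card (P : Subgroup G) := by rw [card_P hord P]
  have hN0 : Nat.card N ≠ 1 := fun e => hN1 (Subgroup.card_eq_one.mp e)
  have hcop : (Nat.card N).Coprime 11 := ((by norm_num : Nat.Prime 11).coprime_iff_not_dvd.mpr hN).symm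
  obtain ⟨R3⟩ : Nonempty (Sylow 3 G) := inferInstance
  obtain ⟨R5⟩ : Nonempty (Sylow 5 G) := inferInstance
  rcases card_sylow_mem hord P with h1 | h1 | h1 | h1
  · omega
  · omega
  · rw [h1] at hM
    left
    have hM' : Nat.card (Subgroup.normalizer ((P : Subgroup G) : Set G)) = 176 := by omega
    rw [hM'] at hCe
    have he1 : e ≠ 1 := by
      rintro rfl
      rw [mul_one] at hCe
      have hNC' : Subgroup.normalizer ((P : Subgroup G) : Set G) ≤ C := by
        rw [hCdef, Subgroup.eq_of_le_of_card_ge (Subgroup.centralizer_le_normalizer _) (by rw [hM', hCe])]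
      have hc := MonoidHom.ker_transferSylow_isComplement' P hNC'
      have hcard := hc.card_mul
      rw [card_P hord P, hord] at hcard
      have h3 := Subgroup.card_dvd_of_le
        (le_centralizer hord P (MonoidHom.transferSylow P hNC').ker (by
          rw [Subgroup.normalizer_eq_top]; exact le_top) (by omega))
      rw [← hCdef, hCe, show Nat.card (MonoidHom.transferSylow P hNC').ker = 720 by omega] at h3
      norm_num at h3
    have hdec : ∀ e ∈ (10 : ℕ).divisors, e ≠ 1 → ∀ c < 177, c * e = 176 → c ∣ 88 := by decide +kernel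
    have hC88 : Nat.card C ∣ 88 := hdec e (Nat.mem_divisors.mpr ⟨he, by norm_num⟩) he1 _ (by
      have : 0 < e := Nat.pos_of_ne_zero fun h0 => by rw [h0, mul_zero] at hCe; omega
      nlinarith) hCe
    have hN8 : Nat.card N ∣ 8 := hcop.dvd_of_dvd_mul_right (hNd.trans hC88)
    have hdec2 : ∀ d ∈ (8 : ℕ).divisors, d ≠ 1 → 2 ∣ d ∧ ¬ 9 ∣ d - 1 ∧ ¬ 5 ∣ d - 1 := by decide +kernel
    obtain ⟨h2, h9, h5⟩ := hdec2 _ (Nat.mem_divisors.mpr ⟨hN8, by norm_num⟩) hN0
    have hN2 : IsPGroup 2 N := by
      obtain ⟨k, -, hk⟩ := (Nat.dvd_prime_pow Nat.prime_two).mp (show Nat.card N ∣ 2 ^ 3 from hN8)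
      exact IsPGroup.of_card hk
    refine ⟨edge_of_centralizer (by norm_num) _ hPc (h2.trans hNd), ?_, ?_⟩
    · exact edge_of_not_free (by norm_num) (R3 : Subgroup G) N R3.isPGroup' hN2 (hnorm _)
        (by rw [card_sylow_three hord R3]; exact h9)
    · exact edge_of_not_free (by norm_num) (R5 : Subgroup G) N R5.isPGroup' hN2 (hnorm _)
        (by rw [card_sylow_five hord R5]; exact h5)
  · rw [h1] at hM
    right
    have hC55 : Nat.card C ∣ 55 := ⟨e, by rw [hCe]; omega⟩
    have hN5 : Nat.card N = 5 :=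
      ((Nat.dvd_prime (by norm_num : Nat.Prime 5)).mp
        (hcop.dvd_of_dvd_mul_left (hNd.trans hC55))).resolve_left hN0
    have hN5' : IsPGroup 5 N := IsPGroup.of_card (n := 1) (by rw [hN5, pow_one])
    obtain ⟨R2⟩ : Nonempty (Sylow 2 G) := inferInstance
    refine ⟨edge_of_centralizer (by norm_num) _ hPc (hN5 ▸ hNd), ?_, ?_⟩
    · refine edge_of_not_free (by norm_num) (R2 : Subgroup G) N R2.isPGroup' hN5' (hnorm _) ?_
      rw [R2.card_eq_multiplicity, factorization_two hord, hN5]
      norm_num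
    · exact edge_of_not_free (by norm_num) (R3 : Subgroup G) N R3.isPGroup' hN5' (hnorm _)
        (by rw [card_sylow_three hord R3, hN5]; norm_num)

end

end CfsgLib.Order7920
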