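import Cfsg.Agent.Order7920.Basic

/-!
A group of order 7920 with disconnected prime graph is simple.
-/

set_option autoImplicit false
set_option linter.style.haveILetI false

namespace CfsgLib.Order7920

variable {G : Type*} [Group G] [Finite G]

theorem simple_orders : ∀ m ∈ (720 : ℕ).divisors, m ≠ 1 → m ≠ 60 → m ≠ 90 → m ≠ 720 →
    CfsgLib.SmallOrd.blockOK (11 * m) 11 m 89 = true := by decide +kernel

theorem isSimpleGroup (hord : Nat.card G = 7920)
    (hdisc : ∃ A : Set ℕ, (∃ a ∈ A, a.Prime ∧ a ∣ Nat.card G) ∧ (∃ b ∉ A, b.Prime ∧ b ∣ Nat.card G) ∧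
      ∀ a ∈ A, ∀ b ∉ A, a.Prime → b.Prime → a ∣ Nat.card G → b ∣ Nat.card G → ¬ ∃ g : G, orderOf g = a * b) :
    IsSimpleGroup G := by
  classical
  obtain ⟨A, ⟨a, haA, hap, had⟩, ⟨b, hbA, hbp, hbd⟩, hA⟩ := hdisc
  have hset : ∀ x : ℕ, x.Prime → x ∣ Nat.card G → x = 2 ∨ x = 3 ∨ x = 5 ∨ x = 11 := by
    intro x hx hd
    rw [hord] at hd
    have : x ∈ (7920 : ℕ).primeFactors := Nat.mem_primeFactors.mpr ⟨hx, hd, by norm_num⟩
    rw [show (7920 : ℕ).primeFactors = {2, 3, 5, 11} by decide +kernel] at this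
    simpa using this
  have heq : ∀ x y : ℕ, x ∈ ({2, 3, 5, 11} : Finset ℕ) → y ∈ ({2, 3, 5, 11} : Finset ℕ) → Edge G x y →
      (x ∈ A ↔ y ∈ A) := by
    intro x y hx hy he
    have hpr : ∀ z ∈ ({2, 3, 5, 11} : Finset ℕ), z.Prime ∧ z ∣ 7920 := by decide +kernel
    obtain ⟨hxp, hxd⟩ := hpr x hx
    obtain ⟨hyp, hyd⟩ := hpr y hy
    rw [← hord] at hxd hyd
    constructor
    · intro h
      by_contra h'
      exact hA x h y h' hxp hyp hxd hyd he
    · intro h
      by_contra h'
      exact hA y h x h' hyp hxp hyd hxd he.symm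
  have conn : (11 ∈ A ↔ 2 ∈ A) → (11 ∈ A ↔ 3 ∈ A) → (11 ∈ A ↔ 5 ∈ A) → False := by
    intro h2 h3 h5
    rcases hset a hap had with rfl | rfl | rfl | rfl <;>
      rcases hset b hbp hbd with rfl | rfl | rfl | rfl <;> tauto
  haveI : Fact (Nat.Prime 11) := ⟨by norm_num⟩
  obtain ⟨P⟩ : Nonempty (Sylow 11 G) := inferInstance
  by_cases hn : Nat.card (Sylow 11 G) ≤ 12
  · exfalso
    obtain ⟨h2, h3, h5⟩ := edges_of_small hord P hn
    have e2 := heq 11 2 (by simp) (by simp) h2
    have e3 := heq 11 3 (by simp) (by simp) h3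
    refine conn e2 e3 ?_
    rcases h5 with h5 | h5
    · exact heq 11 5 (by simp) (by simp) h5
    · exact e3.trans (heq 5 3 (by simp) (by simp) h5).symm
  replace hn : 12 < Nat.card (Sylow 11 G) := not_le.mp hn
  have h11 : ∀ N : Subgroup G, N.Normal → N ≠ ⊥ → 11 ∣ Nat.card N := by
    intro N hN hN1
    by_contra h
    haveI := hN
    rcases edges_of_normal hord P hn N hN1 h with ⟨h2, h3, h5⟩ | ⟨h5, h2, h3⟩
    · have e2 := heq 11 2 (by simp) (by simp) h2
      exact conn e2 (e2.trans (heq 3 2 (by simp) (by simp) h3).symm)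
        (e2.trans (heq 5 2 (by simp) (by simp) h5).symm)
    · have e5 := heq 11 5 (by simp) (by simp) h5
      exact conn (e5.trans (heq 2 5 (by simp) (by simp) h2).symm)
        (e5.trans (heq 3 5 (by simp) (by simp) h3).symm) e5
  haveI : Nontrivial G := Finite.one_lt_card_iff_nontrivial.mp (by rw [hord]; norm_num)
  by_contra hns
  have hex : ∃ N : Subgroup G, N.Normal ∧ N ≠ ⊥ ∧ N ≠ ⊤ := by
    by_contra hc
    refine hns ⟨fun N hN => ?_⟩
    by_contra hc'
    exact hc ⟨N, hN, fun h => hc' (Or.inl h), fun h => hc' (Or.inr h)⟩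
  obtain ⟨N0, hN0⟩ := hex
  obtain ⟨N, hN, hmin⟩ := Set.Finite.exists_minimal (s := {N : Subgroup G | N.Normal ∧ N ≠ ⊥ ∧ N ≠ ⊤})
    (Set.toFinite _) ⟨N0, hN0⟩
  obtain ⟨hNn, hN1, hNt⟩ := hN
  haveI := hNn
  have hP : ∀ Q : Sylow 11 G, Nat.card (Q : Subgroup G) = 11 := card_P hord
  -- a subgroup of order divisible by eleven contains a Sylow subgroup
  have hcontains : ∀ X : Subgroup G, 11 ∣ Nat.card X → ∃ Q : Sylow 11 G, (Q : Subgroup G) ≤ X := by
    intro X hX
    obtain ⟨x, hx⟩ := exists_prime_orderOf_dvd_card' (G := X) 11 hX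
    have hxo : orderOf (x : G) = 11 := by rw [Subgroup.orderOf_coe]; exact hx
    obtain ⟨Q, hQ⟩ := (IsPGroup.of_card (p := 11) (n := 1) (G := Subgroup.zpowers (x : G))
      (by rw [Nat.card_zpowers, hxo, pow_one])).exists_le_sylow
    refine ⟨Q, ?_⟩
    have he : (Q : Subgroup G) = Subgroup.zpowers (x : G) :=
      (Subgroup.eq_of_le_of_card_ge hQ (by rw [hP Q, Nat.card_zpowers, hxo])).symm
    rw [he, Subgroup.zpowers_le]
    exact x.2
  obtain ⟨Q0, hQ0⟩ := hcontains N (h11 N hNn hN1)
  have hall : ∀ Q : Sylow 11 G, (Q : Subgroup G) ≤ N := by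
    intro Q
    obtain ⟨g, rfl⟩ := MulAction.exists_smul_eq G Q0 Q
    rw [Sylow.smul_def, Sylow.pointwise_smul_def]
    rintro _ ⟨z, hz, rfl⟩
    exact hNn.conj_mem z (hQ0 hz) g
  have hinj : Function.Injective (fun Q : Sylow 11 G => Q.subtype (hall Q)) := fun Q Q' h =>
    Sylow.subtype_injective h
  have hsurj : Function.Surjective (fun Q : Sylow 11 G => Q.subtype (hall Q)) := by
    intro R
    obtain ⟨k, hk⟩ := MulAction.exists_smul_eq N (Q0.subtype (hall Q0)) R
    exact ⟨(k : G) • Q0, hk ▸ (Sylow.smul_subtype (hall Q0) k).symm⟩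
  have hcardn : Nat.card (Sylow 11 N) = Nat.card (Sylow 11 G) :=
    (Nat.card_eq_of_bijective _ ⟨hinj, hsurj⟩).symm
  -- a normal subgroup of N of order divisible by eleven contains all Sylow subgroups
  have hallK : ∀ K : Subgroup N, K.Normal → 11 ∣ Nat.card K →
      ∀ Q : Sylow 11 G, (Q : Subgroup G) ≤ K.map N.subtype := by
    intro K hK hKd Q
    obtain ⟨Q1, hQ1⟩ := hcontains (K.map N.subtype)
      (by rwa [Subgroup.card_map_of_injective N.subtype_injective])
    obtain ⟨k, hk⟩ := MulAction.exists_smul_eq N (Q1.subtype (hall Q1)) (Q.subtype (hall Q))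
    rw [Sylow.smul_subtype] at hk
    rw [← Sylow.subtype_injective hk]
    show ((((k : G) • Q1 : Sylow 11 G)) : Subgroup G) ≤ K.map N.subtype
    rw [Sylow.smul_def, Sylow.pointwise_smul_def]
    rintro _ ⟨z, hz, rfl⟩
    obtain ⟨y, hy, rfl⟩ := hQ1 hz
    exact ⟨k * y * k⁻¹, hK.conj_mem y hy k, rfl⟩
  let S : Set G := ⋃ Q : Sylow 11 G, ((Q : Subgroup G) : Set G)
  haveI hSn : (Subgroup.closure S).Normal := by
    refine Subgroup.normalizer_eq_top_iff.mp (eq_top_iff.mpr fun g _ => ?_)
    refine Subgroup.mem_normalizer_fintype fun y hy => ?_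
    have : Subgroup.closure S ≤ (Subgroup.closure S).comap (MulAut.conj g).toMonoidHom := by
      rw [Subgroup.closure_le]
      intro z hz
      obtain ⟨Q, hzQ⟩ := Set.mem_iUnion.mp hz
      refine Subgroup.subset_closure (Set.mem_iUnion.mpr ⟨g • Q, ?_⟩)
      rw [Sylow.smul_def, Sylow.pointwise_smul_def]
      exact ⟨z, hzQ, rfl⟩
    exact this hy
  have hS : Subgroup.closure S = N := by
    refine le_antisymm ?_ (hmin ⟨hSn, ?_, ?_⟩ ?_)
    · rw [Subgroup.closure_le]
      exact Set.iUnion_subset fun Q => hall Q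
    · intro he
      have hle : (Q0 : Subgroup G) ≤ Subgroup.closure S := fun z hz =>
        Subgroup.subset_closure (Set.mem_iUnion.mpr ⟨Q0, hz⟩)
      rw [he, le_bot_iff] at hle
      have := hP Q0
      rw [hle, Subgroup.card_bot] at this
      norm_num at this
    · intro he
      refine hNt (eq_top_iff.mpr (he ▸ ?_))
      rw [Subgroup.closure_le]
      exact Set.iUnion_subset fun Q => hall Q
    · show Subgroup.closure S ≤ N
      rw [Subgroup.closure_le]
      exact Set.iUnion_subset fun Q => hall Q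
  haveI : Nontrivial N := (Subgroup.nontrivial_iff_ne_bot N).mpr hN1
  haveI hsimp : IsSimpleGroup N := ⟨fun K hK => by
    by_contra hc
    rw [not_or] at hc
    haveI := hK
    by_cases hKd : 11 ∣ Nat.card K
    · refine hc.2 (eq_top_iff.mpr fun x _ => ?_)
      have hle : N ≤ K.map N.subtype := by
        conv_lhs => rw [← hS]
        rw [Subgroup.closure_le]
        exact Set.iUnion_subset fun Q => hallK K hK hKd Q
      obtain ⟨y, hy, hyx⟩ := hle x.2
      rwa [Subtype.ext hyx] at hy
    · have hcen : K ≤ Subgroup.center N := by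
        intro x hx
        rw [Subgroup.mem_center_iff]
        intro y
        have hle : N ≤ Subgroup.centralizer ((K.map N.subtype : Subgroup G) : Set G) := by
          conv_lhs => rw [← hS]
          rw [Subgroup.closure_le]
          refine Set.iUnion_subset fun Q => ?_
          show (Q : Subgroup G) ≤ Subgroup.centralizer ((K.map N.subtype : Subgroup G) : Set G)
          refine Subgroup.le_centralizer_iff.mp ?_
          refine le_centralizer hord Q _ ?_ (by rwa [Subgroup.card_map_of_injective N.subtype_injective])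
          intro z hz
          refine Subgroup.mem_normalizer_fintype ?_
          rintro _ ⟨w, hw, rfl⟩
          exact ⟨⟨z, hall Q hz⟩ * w * ⟨z, hall Q hz⟩⁻¹, hK.conj_mem w hw _, rfl⟩
        exact Subtype.ext (Subgroup.mem_centralizer_iff.mp (hle y.2) x (Subgroup.mem_map_of_mem _ hx)).symm
      set Z := (Subgroup.center N).map N.subtype with hZdef
      have hZn : Z.Normal := inferInstance
      have hZ1 : Z ≠ ⊥ := by
        intro h
        rw [hZdef, Subgroup.map_eq_bot_iff_of_injective _ N.subtype_injective] at h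
        exact hc.1 (le_bot_iff.mp (h ▸ hcen))
      have hZd := h11 Z hZn hZ1
      rw [hZdef, Subgroup.card_map_of_injective N.subtype_injective] at hZd
      have hsub : Subsingleton (Sylow 11 G) := by
        refine ⟨fun Q Q' => ?_⟩
        obtain ⟨k, hk⟩ := MulAction.exists_smul_eq N (Q.subtype (hall Q)) (Q'.subtype (hall Q'))
        rw [Sylow.smul_subtype] at hk
        rw [← Sylow.subtype_injective hk]
        refine (Sylow.smul_eq_iff_mem_normalizer.mpr (Subgroup.mem_normalizer_fintype fun z hz => ?_)).symm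
        obtain ⟨w, hw, rfl⟩ := hallK (Subgroup.center N) inferInstance hZd Q hz
        have hcomm : (k : G) * (N.subtype w) * (k : G)⁻¹ = N.subtype w := by
          show ((k * w * k⁻¹ : N) : G) = ((w : N) : G)
          rw [Subgroup.mem_center_iff.mp hw k, mul_inv_cancel_right]
        rw [hcomm]
        exact hz
      have := Finite.card_le_one_iff_subsingleton.mpr hsub
      omega⟩
  have hNd : Nat.card N ∣ 7920 := hord ▸ Subgroup.card_subgroup_dvd_card N
  obtain ⟨m, hm⟩ := h11 N hNn hN1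
  have hm720 : m ∣ 720 := by
    rw [hm] at hNd
    exact Nat.dvd_of_mul_dvd_mul_left (by norm_num) (show 11 * m ∣ 11 * 720 from hNd)
  have hnm : Nat.card (Sylow 11 G) ∣ m := by
    rw [← hcardn]
    have h1 := ((Q0.subtype (hall Q0) : Sylow 11 N) : Subgroup N).card_mul_index
    have hc : Nat.card ((Q0.subtype (hall Q0) : Sylow 11 N) : Subgroup N) = 11 :=
      (Nat.card_congr (Subgroup.subgroupOfEquivOfLe (hall Q0)).toEquiv).trans (hP Q0)
    rw [hc, hm] at h1
    have := (Q0.subtype (hall Q0)).card_dvd_index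
    rwa [Nat.eq_of_mul_eq_mul_left (by norm_num) h1] at this
  have hm0 : 0 < m := Nat.pos_of_ne_zero fun h => by rw [h] at hm720; norm_num at hm720
  have hm1 : m ≠ 1 := by
    rintro rfl
    have := Nat.le_of_dvd one_pos hnm
    omega
  have hm60 : m ≠ 60 := by
    rintro rfl
    rcases card_sylow_mem hord P with h | h | h | h <;> rw [h] at hn hnm <;> first | omega | norm_num at hnm
  have hmt : m ≠ 720 := by
    rintro rfl
    exact hNt (Subgroup.eq_top_of_card_eq _ (by rw [hm, hord]))
  have hm90 : m ≠ 90 := by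
    rintro rfl
    have hc : CfsgLib.SmallOrd.Cert.four.check (Nat.card N) = true := by
      rw [hm]; decide
    have := CfsgLib.SmallOrd.Cert.eq_keep (G := N) (CfsgLib.SmallOrd.not_comm (by rw [hm]; norm_num)) hc
    cases this
  have hok := simple_orders m (Nat.mem_divisors.mpr ⟨hm720, by norm_num⟩) hm1 hm60 hm90 hmt
  rw [← hm] at hok
  exact CfsgLib.SmallOrd.blockOK_false hok

end CfsgLib.Order7920
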